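import Cfsg.Agent.H850.KS.PAFour
import Cfsg.Agent.H850.KS.Sixteen
import Cfsg.Agent.S4710
import Cfsg.Agent.S4696
import Cfsg.Agent.S0973

/-!
# S4577 from the elementary abelian case

* `height_lt` : `D` nonabelian of order 16: `h < log_2 |D : Z(D)|`;
* `heights_zero_ab` : `D` abelian of order 16, not elementary: heights zero;
* `s4577_of` : the statement S4577 from `HZ`.
-/

set_option autoImplicit false
set_option linter.unusedSectionVars false

open Cfsg Cfsg.Agent.H613.KS

namespace Cfsg.Agent.H850.KS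

open Cfsg.Agent.Blocks.Local Cfsg.Agent.Characters
open Cfsg.Agent.H649 Cfsg.Agent.H651
open Cfsg.Agent.H645.FusCount (stab mem_stab)

universe u

variable {G : Type u} [Group G] [Finite G] {M : Ideal AlgInt} {B : Set (IrrCharacter G)} {D : Subgroup G}

/-- the order of the centre of a nonabelian group of order 16 -/
theorem card_center_cases {X : Type*} [Group X] [Finite X] (h16 : Nat.card X = 16) (hna : ¬ IsMulCommutative X) :
    Nat.card (Subgroup.center X) = 2 ∨ Nat.card (Subgroup.center X) = 4 := by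
  have hXp : IsPGroup 2 X := IsPGroup.of_card (n := 4) (by rw [h16]; norm_num)
  have : Nontrivial X := Finite.one_lt_card_iff_nontrivial.1 (by rw [h16]; norm_num)
  have : Fact (Nat.Prime 2) := ⟨Nat.prime_two⟩
  have h1 : Nontrivial (Subgroup.center X) := hXp.center_nontrivial
  have h2 : 1 < Nat.card (Subgroup.center X) := Finite.one_lt_card_iff_nontrivial.2 h1
  have h3 : Nat.card (Subgroup.center X) ∣ 2 ^ 4 := by
    have := Subgroup.card_subgroup_dvd_card (Subgroup.center X)
    rw [h16] at this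
    exact this
  have h5 : (Subgroup.center X).index ≠ 1 := by
    intro h
    have h6 := Subgroup.index_eq_one.1 h
    exact hna ⟨⟨fun x y => ((Subgroup.mem_center_iff.1 (by rw [h6]; trivial : y ∈ Subgroup.center X)) x)⟩⟩
  have h6 : ¬ IsCyclic (X ⧸ Subgroup.center X) := by
    intro hc
    apply hna
    exact MonoidHom.isMulCommutative_of_isCyclic_of_ker_le_center (QuotientGroup.mk' (Subgroup.center X)) (by
      rw [QuotientGroup.ker_mk'])
  have h7 : (Subgroup.center X).index ≠ 2 := by
    intro h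
    apply h6
    exact isCyclic_of_prime_card (p := 2) (by rw [← Subgroup.index_eq_card]; exact h)
  obtain ⟨k, hk, hk'⟩ := (Nat.dvd_prime_pow Nat.prime_two).1 h3
  have h8 := (Subgroup.center X).card_mul_index
  rw [h16, hk'] at h8
  rw [hk'] at h2 ⊢
  interval_cases k
  · norm_num at h2
  · exact Or.inl rfl
  · exact Or.inr rfl
  · exact absurd (by omega) h7
  · exact absurd (by omega) h5

/-- nonabelian defect groups of order 16 -/
theorem height_lt (hM : IsPModular 2 M) (hB : IsPBlock M B) (hD : IsDefectGroup 2 M B D)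
    (h16 : Nat.card D = 16) (hna : ¬ IsMulCommutative D) {χ : IrrCharacter G} (hχ : χ ∈ B) :
    blockHeight 2 B (χ : G → ℂ) < ((Subgroup.center D).index).factorization 2 := by
  have : Fact (Nat.Prime 2) := ⟨Nat.prime_two⟩
  have hd := defect_eq_four hM hB hD h16
  have hmul := (Subgroup.center D).card_mul_index
  rw [h16] at hmul
  rcases card_center_cases h16 hna with h2 | h4
  · have hi : (Subgroup.center D).index = 2 ^ 3 := by
      rw [h2] at hmul
      omega
    rw [hi, Nat.Prime.factorization_pow Nat.prime_two, Finsupp.single_eq_same]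
    have h1 := ((Cfsg.Agent.S4710.result 2 M hM B hB 4 hd).2 χ hχ).2 (by norm_num)
    omega
  · have hi : (Subgroup.center D).index = 2 ^ 2 := by
      rw [h4] at hmul
      omega
    rw [hi, Nat.Prime.factorization_pow Nat.prime_two, Finsupp.single_eq_same]
    by_contra hcon
    push Not at hcon
    obtain ⟨b, -, hb⟩ := (Cfsg.Agent.S0973.result 2 M hM B hB D hD).1
    obtain ⟨z, hz1, hz2, hz3, hz4⟩ := exists_three h16 h4 hna
    have h1 := card_mul_le_norm hM hD hb z hz1 hz2 hz3 hz4 hχ (by omega)
    rw [hd, Fintype.card_fin] at h1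
    have h3 : 2 ^ 3 ≤ 2 ^ (blockHeight 2 B (χ : G → ℂ) + 1) := Nat.pow_le_pow_right (by norm_num) (by omega)
    omega

/-- the root block and its stabilizer, for an abelian defect group -/
theorem exists_root (hM : IsPModular 2 M) (hB : IsPBlock M B) (hD : IsDefectGroup 2 M B D)
    (hab : ∀ x ∈ D, ∀ y ∈ D, x * y = y * x) :
    ∃ c : Set (IrrCharacter ↥(Subgroup.centralizer (D : Set G))),
      IsInducedBlock M (Subgroup.centralizer (D : Set G)) c B ∧ ∃ T : Subgroup G,
      ∀ g : G, g ∈ T ↔ (g ∈ Subgroup.normalizer (D : Set G) ∧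
        StabilizesBlock (Subgroup.centralizer (D : Set G)) c g) := by
  have : Fact (Nat.Prime 2) := ⟨Nat.prime_two⟩
  have := isPrime_of_isPModular hM
  have := Fintype.ofFinite G
  have hle : D ≤ Subgroup.centralizer (D : Set G) := fun x hx =>
    Subgroup.mem_centralizer_iff.2 fun y hy => hab y hy x hx
  have h1 := (Cfsg.Agent.S0973.result 2 M hM B hB D hD).1
  rw [sup_eq_right.2 hle] at h1
  obtain ⟨c, -, hc⟩ := h1
  refine ⟨c, hc, stab (⟨D, c⟩ : BrauerPairIdx G), fun g => ?_⟩
  rw [mem_stab]
  exact conjIdx_eq_iff hc.1 g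

/-- abelian defect groups of order 16 which are not elementary -/
theorem heights_zero_ab (hM : IsPModular 2 M) (hB : IsPBlock M B) (hD : IsDefectGroup 2 M B D)
    (h16 : Nat.card D = 16) (hab : IsMulCommutative D) (hel : ∃ x ∈ D, x * x ≠ 1) :
    ∀ χ ∈ B, blockHeight 2 B (χ : G → ℂ) = 0 := by
  have : Fact (Nat.Prime 2) := ⟨Nat.prime_two⟩
  have hab' : ∀ x ∈ D, ∀ y ∈ D, x * y = y * x := fun x hx y hy =>
    congrArg Subtype.val (hab.is_comm.comm (⟨x, hx⟩ : D) ⟨y, hy⟩)
  obtain ⟨c, hc, T, hT⟩ := exists_root hM hB hD hab'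
  by_cases hcyc : IsCyclic D
  · exact (Cfsg.Agent.S4696.result 2 M hM D hcyc 4 (by norm_num) (by rw [h16]; norm_num) B hB hD c hc T (hT_iff hT)
      _ rfl).2.1
  · have hTN : T ≤ Subgroup.normalizer (D : Set G) := fun g hg => ((hT g).1 hg).1
    have hodd := odd_relIndex hM hD hab' hc hT
    rw [← card_range_act hTN] at hodd
    obtain ⟨x, hx, hx2⟩ := hel
    obtain ⟨z, hz4, hz⟩ := exists_five h16 hab hcyc ⟨⟨x, hx⟩, fun h => hx2 (congrArg Subtype.val h)⟩
      (act hTN).range (by rw [← Nat.not_even_iff_odd, even_iff_two_dvd]; exact hodd)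
    refine heights_of_six hM hB hD h16 hab' hc hT (ι := Fin 5) (by rw [Fintype.card_fin]) (fun i => (z i : G))
      (fun i => (z i).2) (fun i => congrArg Subtype.val (hz4 i)) fun i j t ht h => ?_
    exact hz i j (act hTN ⟨t, ht⟩) ⟨_, rfl⟩ (Subtype.ext h)

/-- **S4577** from the elementary abelian case. -/
theorem s4577_of (h : HZ G) (hM : IsPModular 2 M) (hB : IsPBlock M B) (hD : IsDefectGroup 2 M B D)
    (h16 : Nat.card D = 16) (χ : IrrCharacter G) (hχ : χ ∈ B) :
    blockHeight 2 B (χ : G → ℂ) ≤ ((Subgroup.center D).index).factorization 2 ∧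
      (blockHeight 2 B (χ : G → ℂ) = ((Subgroup.center D).index).factorization 2 ↔ IsMulCommutative D) := by
  by_cases hab : IsMulCommutative D
  · have h0 : blockHeight 2 B (χ : G → ℂ) = 0 := by
      by_cases hel : ∃ x ∈ D, x * x ≠ 1
      · exact heights_zero_ab hM hB hD h16 hab hel χ hχ
      · push Not at hel
        exact h M hM B hB D hD ⟨h16, hel⟩ χ hχ
    have h1 : (Subgroup.center D).index = 1 := by
      rw [Subgroup.index_eq_one, eq_top_iff]
      intro x _
      exact Subgroup.mem_center_iff.2 fun y => hab.is_comm.comm y x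
    rw [h0, h1]
    simp [hab]
  · have h1 := height_lt hM hB hD h16 hab hχ
    exact ⟨h1.le, fun h2 => absurd h2 h1.ne, fun h2 => absurd h2 hab⟩

end Cfsg.Agent.H850.KS
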