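import Cfsg.Agent.H850.KS.Hyp
import Cfsg.Agent.H850.KS.Bound
import Cfsg.Agent.H850.KS.Orb
import Cfsg.Agent.H645.TraceForm
import Cfsg.Agent.H769.SF.AutCard
import Cfsg.Agent.S0908

/-!
# S4577, PA4: inertial index prime to 5

`PA4_of` : `PA4Fix → PA4Nine → PA4`.
-/

set_option autoImplicit false
set_option linter.unusedSectionVars false

open Cfsg Cfsg.Agent.H613.KS

namespace Cfsg.Agent.H850.KS

open Cfsg.Agent.Blocks.Local Cfsg.Agent.Characters
open Cfsg.Agent.H649 Cfsg.Agent.H651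
open Cfsg.Agent.H645.FusCount (stab mem_stab)

universe u

theorem e16_comm {G : Type*} [Group G] {D : Subgroup G} (h : E16 D) : ∀ x ∈ D, ∀ y ∈ D, x * y = y * x := by
  intro x hx y hy
  have h1 := h.inv _ (D.mul_mem hx hy)
  have h2 := h.inv _ hx
  have h3 := h.inv _ hy
  calc x * y = x * (x * y * (x * y)) * y := by rw [h1, mul_one]
    _ = (x * x) * (y * x) * (y * y) := by simp only [mul_assoc]
    _ = y * x := by rw [h2, h3, one_mul, mul_one]

section

variable {G : Type u} [Group G] [Finite G] {M : Ideal AlgInt}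

theorem defect_eq_four (hM : IsPModular 2 M) {B : Set (IrrCharacter G)} (hB : IsPBlock M B) {D : Subgroup G}
    (hD : IsDefectGroup 2 M B D) (h16 : Nat.card D = 16) : blockDefect 2 B = 4 := by
  have : Fact (Nat.Prime 2) := ⟨Nat.prime_two⟩
  have h3 := Cfsg.Agent.S0908.result 2 M hM B hB D hD
  rw [h16, show (16 : ℕ) = 2 ^ 4 by norm_num] at h3
  exact (Nat.pow_right_injective le_rfl h3).symm

/-- six pairwise non-conjugate elements of order at most 4 in an abelian defect group of order 16 -/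
theorem heights_of_six (hM : IsPModular 2 M) {B : Set (IrrCharacter G)} (hB : IsPBlock M B) {D : Subgroup G}
    (hD : IsDefectGroup 2 M B D) (h16 : Nat.card D = 16) (hab : ∀ x ∈ D, ∀ y ∈ D, x * y = y * x)
    {c : Set (IrrCharacter ↥(Subgroup.centralizer (D : Set G)))}
    (hc : IsInducedBlock M (Subgroup.centralizer (D : Set G)) c B) {T : Subgroup G}
    (hT : ∀ g : G, g ∈ T ↔ (g ∈ Subgroup.normalizer (D : Set G) ∧
      StabilizesBlock (Subgroup.centralizer (D : Set G)) c g))
    {ι : Type*} [Fintype ι] (hι : 5 ≤ Fintype.card ι) (z : ι → G) (hzD : ∀ i, z i ∈ D)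
    (hz4 : ∀ i, z i ^ 4 = 1) (hz : ∀ i j, ∀ t ∈ T, t * z i * t⁻¹ = z j → i = j) :
    ∀ χ ∈ B, blockHeight 2 B (χ : G → ℂ) = 0 := by
  intro χ hχ
  by_contra hh
  have h1 := card_mul_le_ab hM hD hab hc hT z hzD hz4 hz hχ hh
  rw [defect_eq_four hM hB hD h16] at h1
  have h2 : 2 ^ 2 ≤ 2 ^ (blockHeight 2 B (χ : G → ℂ) + 1) := Nat.pow_le_pow_right (by norm_num) (by omega)
  nlinarith

/-- inertial index at most 3: heights zero -/
theorem heights_of_le_three (hM : IsPModular 2 M) {B : Set (IrrCharacter G)} (hB : IsPBlock M B) {D : Subgroup G}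
    (hD : IsDefectGroup 2 M B D) (h16 : Nat.card D = 16) (hab : ∀ x ∈ D, ∀ y ∈ D, x * y = y * x)
    (h4 : ∀ x ∈ D, x ^ 4 = 1)
    {c : Set (IrrCharacter ↥(Subgroup.centralizer (D : Set G)))}
    (hc : IsInducedBlock M (Subgroup.centralizer (D : Set G)) c B) {T : Subgroup G}
    (hT : ∀ g : G, g ∈ T ↔ (g ∈ Subgroup.normalizer (D : Set G) ∧
      StabilizesBlock (Subgroup.centralizer (D : Set G)) c g))
    (he : (Subgroup.centralizer (D : Set G)).relIndex T ≤ 3) :
    ∀ χ ∈ B, blockHeight 2 B (χ : G → ℂ) = 0 := by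
  classical
  have hTN : T ≤ Subgroup.normalizer (D : Set G) := fun g hg => ((hT g).1 hg).1
  have h1 := card_le_mul_orbits (E := (act hTN).range) (X := D)
  rw [card_range_act, h16] at h1
  have := Fintype.ofFinite (MulAction.orbitRel.Quotient (act hTN).range D)
  have h2 : 16 ≤ 3 * Nat.card (MulAction.orbitRel.Quotient (act hTN).range D) :=
    h1.trans (Nat.mul_le_mul_right _ he)
  rw [Nat.card_eq_fintype_card] at h2
  refine heights_of_six hM hB hD h16 hab hc hT (ι := MulAction.orbitRel.Quotient (act hTN).range D) (by omega)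
    (fun q => (q.out : D)) (fun q => q.out.2) (fun q => h4 _ q.out.2) fun i j t ht h => ?_
  have h3 : (⟨act hTN ⟨t, ht⟩, ⟨_, rfl⟩⟩ : (act hTN).range) • (i.out : D) = j.out := Subtype.ext h
  have h4 : MulAction.orbitRel (act hTN).range D j.out i.out := MulAction.orbitRel_apply.2 ⟨_, h3⟩
  rw [← Quotient.out_eq' i, ← Quotient.out_eq' j]
  exact (Quotient.sound' h4).symm

theorem odd_relIndex (hM : IsPModular 2 M) {B : Set (IrrCharacter G)} {D : Subgroup G}
    (hD : IsDefectGroup 2 M B D) (hab : ∀ x ∈ D, ∀ y ∈ D, x * y = y * x)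
    {c : Set (IrrCharacter ↥(Subgroup.centralizer (D : Set G)))}
    (hc : IsInducedBlock M (Subgroup.centralizer (D : Set G)) c B) {T : Subgroup G}
    (hT : ∀ g : G, g ∈ T ↔ (g ∈ Subgroup.normalizer (D : Set G) ∧
      StabilizesBlock (Subgroup.centralizer (D : Set G)) c g)) :
    ¬ 2 ∣ (Subgroup.centralizer (D : Set G)).relIndex T := by
  have : Fact (Nat.Prime 2) := ⟨Nat.prime_two⟩
  have := isPrime_of_isPModular hM
  have := Fintype.ofFinite G
  obtain ⟨a, ha⟩ : ∃ a : BrauerPairIdx G, a = ⟨D, c⟩ := ⟨_, rfl⟩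
  have hD' : a.1 = D := by rw [ha]
  have hmax : IsMaximalBrauerPair 2 M B a.1 a.2 := by
    rw [ha]; exact Cfsg.Agent.H641.isMaximal_of_induced hM hD hc
  have hTs : stab a = T := by
    ext g
    rw [mem_stab, hT, ha]
    exact conjIdx_eq_iff hc.1 g
  have h1 := Cfsg.Agent.H645.TraceForm.not_dvd_relIndex_stab hM hmax (by rw [hD']; exact hab)
  rwa [hTs, hD'] at h1

end

/-- **PA4** -/
theorem PA4_of (h7 : PA4Fix.{u}) (h9 : PA4Nine.{u}) : Cfsg.Agent.H613.KS.Props.PA4.{u} := by
  intro G _ _ M hM B hB D hD h16 c hc T hT h5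
  have hab := e16_comm h16
  have hTN : T ≤ Subgroup.normalizer (D : Set G) := fun g hg => ((hT g).1 hg).1
  have h2 := odd_relIndex hM hD hab hc hT
  have hr := card_range_act hTN
  have h3 : (Subgroup.centralizer (D : Set G)).relIndex T ∣ 20160 := by
    rw [← hr]
    exact Cfsg.Agent.H769.SF.AutCard.card_aut_dvd h16.inv h16.card _
  have h63 : (Subgroup.centralizer (D : Set G)).relIndex T ∣ 63 := by
    have hc2 : Nat.Coprime ((Subgroup.centralizer (D : Set G)).relIndex T) 320 := by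
      rw [show (320 : ℕ) = 2 ^ 6 * 5 by norm_num]
      exact Nat.Coprime.mul_right (Nat.Coprime.pow_right 6 ((Nat.Prime.coprime_iff_not_dvd Nat.prime_two).2 h2).symm)
        ((Nat.Prime.coprime_iff_not_dvd (by norm_num)).2 h5).symm
    exact hc2.dvd_of_dvd_mul_left (by rw [show (320 * 63 : ℕ) = 20160 by norm_num]; exact h3)
  by_cases hd7 : 7 ∣ (Subgroup.centralizer (D : Set G)).relIndex T
  · obtain ⟨x, hx1, hx⟩ := exists_fix_seven (X := D) h16.card (act hTN).range (by rw [hr]; exact h63)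
      (by rw [hr]; exact hd7)
    refine h7 hM hB hD h16 c hc T hT x.2 (fun h => hx1 (Subtype.ext h)) fun t ht => ?_
    exact congrArg Subtype.val (hx (act hTN ⟨t, ht⟩) ⟨_, rfl⟩)
  · by_cases h99 : (Subgroup.centralizer (D : Set G)).relIndex T = 9
    · exact h9 hM hB hD h16 c hc T hT h99
    · refine heights_of_le_three hM hB hD h16.card hab (fun x hx => ?_) hc hT ?_
      · rw [show (4 : ℕ) = 2 * 2 by norm_num, pow_mul, pow_two x, h16.inv x hx, one_pow]
      · obtain ⟨n, hn⟩ : ∃ n, n = (Subgroup.centralizer (D : Set G)).relIndex T := ⟨_, rfl⟩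
        rw [← hn] at h63 hd7 h99 ⊢
        have h8 : n ∣ 9 := by
          have : Nat.Coprime n 7 := ((Nat.Prime.coprime_iff_not_dvd (by norm_num)).2 hd7).symm
          exact this.dvd_of_dvd_mul_left (by norm_num; exact h63)
        have h10 : n ≤ 9 := Nat.le_of_dvd (by norm_num) h8
        interval_cases n <;> omega

end Cfsg.Agent.H850.KS
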